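import Groth.Agent.Lib.FMBase13.Kernel
import Groth.Agent.Lib.DPush.Adapted
import Groth.Agent.Lib.DBC9.Main

/-!
# Flat base change, composites and the projection formula, naturally
-/

set_option autoImplicit false
set_option linter.style.haveILetI false
set_option linter.unusedSectionVars false
set_option backward.isDefEq.respectTransparency false
set_option backward.isDefEq.respectTransparency.types false
set_option maxHeartbeats 1600000

universe u

open CategoryTheory CategoryTheory.Limits MonoidalCategory AlgebraicGeometry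

attribute [local instance] HasDerivedCategory.standard

namespace Groth.Agent.FMBase13

open DMon9 DBC9 TwistBC9 KFlat KFlat.Sch

attribute [local instance] DBC9.hasRpush

variable {X Y Z : Scheme.{u}}

/-- Flat base change, naturally. -/
theorem nonempty_flatBC {X' Y' : Scheme.{u}} {f : X ⟶ Y} [QuasiCompact f] [QuasiSeparated f] {g : Y' ⟶ Y} [Flat g]
    {f' : X' ⟶ Y'} {g' : X' ⟶ X} (H : IsPullback g' f' f g) :
    Nonempty (ObjectProperty.ι (DCoh.IsQCohD (X := X)) ⋙ DCoh.Rpush f ⋙ lP g ≅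
      ObjectProperty.ι (DCoh.IsQCohD (X := X)) ⋙ lP g' ⋙ DCoh.Rpush f') := by
  let t : DCoh.Rpush f ⋙ lP g ⟶ lP g' ⋙ DCoh.Rpush f' := bc (adjLP f) (adjLP f') (σcan H.w.symm).hom
  haveI : ∀ E : (DCoh.IsQCohD (X := X)).FullSubcategory,
      IsIso ((Functor.whiskerLeft (ObjectProperty.ι (DCoh.IsQCohD (X := X))) t).app E) := fun E =>
    DBC9.good_main f g f' g' H
      (fun U hU U' hU' hle V _ hV => DBC9.torIndep_of_flat_left _ _ (g.flat_appLE hU hU' hle))
      (adjLP f) (adjLP f') (σcan H.w.symm) E.obj E.property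
  exact ⟨NatIso.ofComponents (fun E => asIso ((Functor.whiskerLeft (ObjectProperty.ι
      (DCoh.IsQCohD (X := X))) t).app E)) fun w =>
    (Functor.whiskerLeft (ObjectProperty.ι (DCoh.IsQCohD (X := X))) t).naturality w⟩

/-- Derived direct image of a composite. -/
noncomputable def rpushComp (f : X ⟶ Y) (g : Y ⟶ Z) {h : X ⟶ Z} (w : f ≫ g = h) :
    DCoh.Rpush f ⋙ DCoh.Rpush g ≅ DCoh.Rpush h :=
  ((adjLP g).comp (adjLP f)).rightAdjointUniq ((adjLP h).ofNatIsoLeft (lPComp f g w).symm)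

/-- Derived direct image commutes with shifts. -/
theorem nonempty_rpush_shift (f : X ⟶ Y) (n : ℤ) :
    Nonempty (shiftFunctor (DCoh.D X) n ⋙ DCoh.Rpush f ≅ DCoh.Rpush f ⋙ shiftFunctor (DCoh.D Y) n) := by
  obtain ⟨h, -⟩ := DPush.exists_commShift_isTriangulated f
  letI := h
  exact ⟨(DCoh.Rpush f).commShiftIso n⟩

/-- The projection formula, as an isomorphism of functors. -/
theorem nonempty_projFunctor (w : X ⟶ Y) [QuasiCompact w] [QuasiSeparated w] {M : X.Modules}
    (hM : PicF.IsInvertible M) :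
    Nonempty (ObjectProperty.ι (DCoh.IsQCohD (X := Y)) ⋙ lP w ⋙ tenF M ⋙ DCoh.Rpush w ≅
      ObjectProperty.ι (DCoh.IsQCohD (X := Y)) ⋙
        ((tensorRight ((rM w).obj (modM M)) : DM Y ⥤ DM Y) : DCoh.D Y ⥤ DCoh.D Y)) := by
  let E : DM X := modM M
  have hE : DCoh.IsQCohD (E : DCoh.D X) := isQCohD_inD M (Twist.isQCoh_of_isInvertible hM) 0
  let t := projT w E
  haveI : ∀ A : (DCoh.IsQCohD (X := Y)).FullSubcategory,
      IsIso ((Functor.whiskerLeft (ObjectProperty.ι (DCoh.IsQCohD (X := Y))) t).app A) := fun A =>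
    isIso_projT w E hE A.obj A.property
  let e : ObjectProperty.ι (DCoh.IsQCohD (X := Y)) ⋙ srcF w E ≅
      ObjectProperty.ι (DCoh.IsQCohD (X := Y)) ⋙ tgtF w E :=
    NatIso.ofComponents (fun A => asIso ((Functor.whiskerLeft (ObjectProperty.ι
      (DCoh.IsQCohD (X := Y))) t).app A)) fun v =>
      (Functor.whiskerLeft (ObjectProperty.ι (DCoh.IsQCohD (X := Y))) t).naturality v
  -- exchange left and right
  haveI := KFlat.Sch.hasLTensorCx (gK M hM).obj
  obtain ⟨c⟩ := nonempty_commIso (gK M hM)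
  obtain ⟨K, ⟨eK⟩⟩ := exists_qM ((rM w).obj E : DCoh.D Y)
  haveI := KFlat.Sch.hasLTensorCx K.obj
  obtain ⟨c'⟩ := nonempty_commIso K
  let eK' : (qM Y).obj K ≅ (rM w).obj E := eK
  let s1 : tenF M ≅ tL (gK M hM) := c.symm
  let s2 : tR K ≅ ((tensorRight ((rM w).obj E) : DM Y ⥤ DM Y) : DCoh.D Y ⥤ DCoh.D Y) :=
    ((MonoidalCategory.tensoringRight (DM Y)).mapIso eK' :)
  let s3 : srcF w E ≅ tL K := ((MonoidalCategory.tensoringLeft (DM Y)).mapIso eK'.symm :)
  let s4 : lP w ⋙ tenF M ⋙ DCoh.Rpush w ≅ tgtF w E :=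
    Functor.isoWhiskerLeft (lP w) (Functor.isoWhiskerRight s1 (DCoh.Rpush w))
  exact ⟨Functor.isoWhiskerLeft _ s4 ≪≫ e.symm ≪≫ Functor.isoWhiskerLeft _ (s3 ≪≫ c' ≪≫ s2)⟩

/-- A shifted object as a tensor product. -/
theorem nonempty_shift_tensor (n : ℤ) :
    Nonempty (((tensorRight (oneM X n) : DM X ⥤ DM X) : DCoh.D X ⥤ DCoh.D X) ≅
      shiftFunctor (DCoh.D X) (-n)) := by
  obtain ⟨s⟩ := nonempty_oneShift (X := X) n
  haveI := KFlat.Sch.hasLTensorCx (oneK X n).obj
  obtain ⟨c⟩ := nonempty_commIso (oneK X n)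
  exact ⟨(c.symm ≪≫ s :)⟩

end Groth.Agent.FMBase13
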