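import Groth.Agent.Lib.TwistBC9.Apps
import Groth.Agent.Lib.PnKoszul9.TwistD
import Groth.Agent.Lib.MumVan22.Surj

/-!
# Twists of the derived category by invertible modules, naturally

For an invertible module the monoidal twist `tenF` is the derived functor of the exact twist; hence twists
compose, cancel, commute with derived pullback and satisfy a projection formula, all as isomorphisms of
functors.
-/

set_option autoImplicit false
set_option linter.style.haveILetI false
set_option linter.unusedSectionVars false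
set_option backward.isDefEq.respectTransparency false
set_option backward.isDefEq.respectTransparency.types false
set_option maxHeartbeats 1600000

universe u

open CategoryTheory CategoryTheory.Limits MonoidalCategory AlgebraicGeometry

attribute [local instance] HasDerivedCategory.standard

namespace Groth.Agent.FMBase13

open DMon9 DBC9 TwistBC9 KFlat KFlat.Sch

attribute [local instance] DBC9.hasRpush

variable {X Y Z : Scheme.{u}}

/-- An invertible module is flat. -/
theorem isFlatTX {G : X.Modules} (hG : PicF.IsInvertible G) : IsFlat (TX X) G :=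
  (KFlat.Sch.isFlat_iff G).2 (KFlat.Sch.isFlat_of_isFinLocFree (M2.isFinLocFree_of_isInvertible hG))

/-- An invertible module in degree zero is K-flat. -/
noncomputable abbrev gK (G : X.Modules) (hG : PicF.IsInvertible G) : KF X :=
  ⟨RHom.sg 0 G, KFlat.isKFlat_single 0 G (isFlatTX hG)⟩

/-- The comparison on complexes. -/
noncomputable def cxIso (G : X.Modules) (R : CochainComplex X.Modules ℤ) :
    ((tcx (TX X)).obj R).obj (RHom.sg 0 G) ≅
      ((DCoh.tensorRightMod G).mapHomologicalComplex (ComplexShape.up ℤ)).obj R :=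
  RHom.singleTensorIso (TX X) 0 G R ≪≫
    (shiftFunctorZero' (CochainComplex X.Modules ℤ) (-0 : ℤ) neg_zero).app _ ≪≫
    (NatIso.mapHomologicalComplex (tensorRightModIso G) (ComplexShape.up ℤ)).app R

theorem cxIso_natural (G : X.Modules) {R R' : CochainComplex X.Modules ℤ} (f : R ⟶ R') :
    ((tcx (TX X)).map f).app (RHom.sg 0 G) ≫ (cxIso G R').hom =
      (cxIso G R).hom ≫ ((DCoh.tensorRightMod G).mapHomologicalComplex (ComplexShape.up ℤ)).map f := by
  have h1 := RHom.singleTensorIso_natural (TX X) 0 G f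
  have h2 := (shiftFunctorZero' (CochainComplex X.Modules ℤ) (-0 : ℤ) neg_zero).hom.naturality
    ((((TX X).flip.obj G).mapHomologicalComplex (ComplexShape.up ℤ)).map f)
  have h3 := (NatIso.mapHomologicalComplex (tensorRightModIso G) (ComplexShape.up ℤ)).hom.naturality f
  simp only [cxIso, Iso.trans_hom, Iso.app_hom]
  refine ((Category.assoc _ _ _).symm.trans ((congrArg (· ≫ _) h1).trans (Category.assoc _ _ _))).trans
    (Eq.trans ?_ (Category.assoc _ _ _).symm)
  refine congrArg ((RHom.singleTensorIso (TX X) 0 G R).hom ≫ ·) ?_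
  refine ((Category.assoc _ _ _).symm.trans ((congrArg (· ≫ _) h2).trans (Category.assoc _ _ _))).trans
    (Eq.trans ?_ (Category.assoc _ _ _).symm)
  exact congrArg (_ ≫ ·) h3

/-- The monoidal twist is the derived twist. -/
theorem nonempty_tenF_twD (G : X.Modules) (hG : PicF.IsInvertible G)
    [PreservesFiniteLimits (DCoh.tensorRightMod G)] :
    Nonempty (tenF G ≅ PnKoszul9.twD G) := by
  haveI := qK_isLocalization X
  refine ⟨Localization.liftNatIso (qK X) (kfW X) (qK X ⋙ tenF G) (qK X ⋙ PnKoszul9.twD G) _ _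
    (NatIso.ofComponents (fun R => (muK R (gK G hG) ≪≫ DerivedCategory.Q.mapIso (cxIso G R.obj) ≪≫
      ((DCoh.tensorRightMod G).mapDerivedCategoryFactors.app R.obj).symm :)) fun {R R'} f => ?_)⟩
  have h1 := Localization.Monoidal.μ_natural_left (qK X) (kfW X) (εK X) f (gK G hG)
  have h2 := congrArg DerivedCategory.Q.map (cxIso_natural G f.hom)
  have h3 := (DCoh.tensorRightMod G).mapDerivedCategoryFactors.inv.naturality f.hom
  rw [Functor.map_comp, Functor.map_comp] at h2
  change (qM X).map f ▷ (qM X).obj (gK G hG) ≫ ((muK R' (gK G hG)).hom ≫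
      DerivedCategory.Q.map (cxIso G R'.obj).hom ≫ _) =
    ((muK R (gK G hG)).hom ≫ DerivedCategory.Q.map (cxIso G R.obj).hom ≫ _) ≫ _
  refine (Category.assoc _ _ _).symm.trans ((congrArg (· ≫ _) h1).trans ((Category.assoc _ _ _).trans ?_))
  refine Eq.trans ?_ (Category.assoc _ _ _).symm
  refine congrArg ((muK R (gK G hG)).hom ≫ ·) ?_
  refine ((Category.assoc _ _ _).symm.trans ((congrArg (· ≫ _) h2).trans (Category.assoc _ _ _))).trans ?_
  exact (congrArg (DerivedCategory.Q.map (cxIso G R.obj).hom ≫ ·) h3).trans (Category.assoc _ _ _).symm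

/-- The derived tensor product with an invertible module is the monoidal twist, naturally. -/
theorem nonempty_LT_tenF (G : X.Modules) (hG : PicF.IsInvertible G) [DCoh.HasLTensorMod G] :
    Nonempty (DCoh.LTensorMod G ≅ tenF G) := by
  haveI := PnKoszul9.preservesFiniteLimits_tensorRightMod G hG
  obtain ⟨a⟩ := PnKoszul9.nonempty_ltensorMod_twD G
  obtain ⟨b⟩ := nonempty_tenF_twD G hG
  exact ⟨a ≪≫ b.symm⟩

/-- Twists by isomorphic modules are isomorphic. -/
noncomputable def tenIso {G G' : X.Modules} (e : G ≅ G') : tenF G ≅ tenF G' :=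
  ((MonoidalCategory.tensoringRight (DM X)).mapIso
    ((DerivedCategory.singleFunctor X.Modules 0).mapIso e : modM G ≅ modM G') :)

/-- The twist by the structure sheaf. -/
noncomputable def tenOne : tenF (Coh.structureModule X) ≅ 𝟭 (DCoh.D X) :=
  (((MonoidalCategory.tensoringRight (DM X)).mapIso
      (Iso.refl _ : modM (Coh.structureModule X) ≅ (qM X).obj (𝟙_ (KF X))) ≪≫
    MonoidalCategory.rightUnitorNatIso (DM X)) :)

/-- A product of invertible modules in degree zero. -/
theorem nonempty_modM_tensor (G : X.Modules) (G' : X.Modules) (hG' : PicF.IsInvertible G') :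
    Nonempty (modM G ⊗ modM G' ≅ modM (CohB1.tensorMod G G')) := by
  haveI := PnKoszul9.preservesFiniteLimits_tensorRightMod G' hG'
  obtain ⟨b⟩ := nonempty_tenF_twD G' hG'
  exact ⟨(b.app ((DerivedCategory.singleFunctor X.Modules 0).obj G) ≪≫ PnKoszul9.twDSingle G' G 0 :)⟩

/-- Twists compose. -/
theorem nonempty_tenComp (G : X.Modules) {G' : X.Modules} (hG' : PicF.IsInvertible G') :
    Nonempty (tenF G ⋙ tenF G' ≅ tenF (CohB1.tensorMod G G')) := by
  obtain ⟨e⟩ := nonempty_modM_tensor G G' hG'
  exact ⟨((MonoidalCategory.tensorRightTensor (modM G) (modM G')).symm ≪≫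
    (MonoidalCategory.tensoringRight (DM X)).mapIso e :)⟩

/-- Twists cancel. -/
theorem nonempty_tenCancel {G G' : X.Modules} (hG' : PicF.IsInvertible G')
    (e : CohB1.tensorMod G G' ≅ Coh.structureModule X) : Nonempty (tenF G ⋙ tenF G' ≅ 𝟭 (DCoh.D X)) := by
  obtain ⟨a⟩ := nonempty_tenComp G hG'
  exact ⟨a ≪≫ tenIso e ≪≫ tenOne⟩

variable (f : X ⟶ Y)

/-- Derived pullback of an invertible module. -/
theorem nonempty_lP_modM {G : Y.Modules} (hG : PicF.IsInvertible G) :
    Nonempty ((lP f).obj ((DerivedCategory.singleFunctor Y.Modules 0).obj G) ≅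
      (DerivedCategory.singleFunctor X.Modules 0).obj ((Scheme.Modules.pullback f).obj G)) :=
  ⟨(lPFac f).app (gK G hG) ≪≫ DerivedCategory.Q.mapIso
    ((HomologicalComplex.singleMapHomologicalComplex (Scheme.Modules.pullback f) (ComplexShape.up ℤ) 0).app G)⟩

/-- Twists commute with derived pullback. -/
theorem nonempty_tenPull {G : Y.Modules} (hG : PicF.IsInvertible G) :
    Nonempty (tenF G ⋙ lP f ≅ lP f ⋙ tenF ((Scheme.Modules.pullback f).obj G)) := by
  obtain ⟨e⟩ := nonempty_lP_modM f hG
  let e' : (dPull f).obj (modM G) ≅ modM ((Scheme.Modules.pullback f).obj G) := e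
  let cM : (tensorRight (modM G) ⋙ dPull f : DM Y ⥤ DM X) ≅
      dPull f ⋙ tensorRight (modM ((Scheme.Modules.pullback f).obj G)) :=
    NatIso.ofComponents (fun A => (Functor.Monoidal.μIso (dPull f) A (modM G)).symm ≪≫
        (tensorLeft ((dPull f).obj A)).mapIso e')
      (fun {A B} w => by
        change (dPull f).map (w ▷ modM G) ≫ Functor.OplaxMonoidal.δ (dPull f) B _ ≫
            (dPull f).obj B ◁ e'.hom =
          (Functor.OplaxMonoidal.δ (dPull f) A _ ≫ (dPull f).obj A ◁ e'.hom) ≫
            (dPull f).map w ▷ modM ((Scheme.Modules.pullback f).obj G)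
        rw [← Functor.OplaxMonoidal.δ_natural_left_assoc, Category.assoc]
        exact congrArg (_ ≫ ·) (MonoidalCategory.whisker_exchange _ _).symm)
  exact ⟨cM⟩

/-- Twists by mutually inverse modules are adjoint. -/
theorem nonempty_tenAdj {G G' : X.Modules} (hG : PicF.IsInvertible G) (hG' : PicF.IsInvertible G')
    (e : CohB1.tensorMod G G' ≅ Coh.structureModule X) : Nonempty (tenF G' ⊣ tenF G) := by
  obtain ⟨a⟩ := nonempty_tenCancel hG' e
  obtain ⟨b⟩ := nonempty_tenCancel hG (M2.tensorComm G' G ≪≫ e)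
  exact ⟨(CategoryTheory.Equivalence.mk (tenF G') (tenF G) b.symm a).toAdjunction⟩

/-- Projection formula for invertible modules. -/
theorem nonempty_pushTwist {N : Y.Modules} (hN : PicF.IsInvertible N) :
    Nonempty (DCoh.Rpush f ⋙ tenF N ≅ tenF ((Scheme.Modules.pullback f).obj N) ⋙ DCoh.Rpush f) := by
  obtain ⟨N', hN', ⟨e⟩⟩ := M2.exists_inverse hN
  obtain ⟨c⟩ := nonempty_tenPull f hN'
  obtain ⟨ad⟩ := nonempty_tenAdj hN hN' e
  have e' : CohB1.tensorMod ((Scheme.Modules.pullback f).obj N) ((Scheme.Modules.pullback f).obj N') ≅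
      Coh.structureModule X :=
    (M2.pullTensorIso f N N').symm ≪≫ (Scheme.Modules.pullback f).mapIso e ≪≫ PicLoc.pullbackStructureIso f
  obtain ⟨ad'⟩ := nonempty_tenAdj (Twist.isInvertible_pullback f hN) (Twist.isInvertible_pullback f hN') e'
  exact ⟨(ad.comp (adjLP f)).rightAdjointUniq (((adjLP f).comp ad').ofNatIsoLeft c.symm)⟩

end Groth.Agent.FMBase13
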