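import Groth.Agent.Lib.AgPol22.Pair
import Groth.Agent.Lib.Poincare22.Fibres
import Groth.Agent.Lib.AlgEquiv22.Ample

/-!
# Translates of a Poincaré module, and squares over the base
-/

set_option autoImplicit false
set_option linter.style.haveILetI false
set_option linter.unusedSectionVars false
set_option backward.isDefEq.respectTransparency false
set_option backward.isDefEq.respectTransparency.types false
set_option maxHeartbeats 1600000

universe u

open CategoryTheory CategoryTheory.Limits MonoidalCategory CartesianMonoidalCategory AlgebraicGeometry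
open scoped MonObj GrpObj

noncomputable section

namespace Groth.Agent.FMBase13

open Groth.Agent.AbDual21 Groth.Agent.PicDesc21 Groth.Agent.AgPol22

noncomputable local instance instLawFMBase (Y : Scheme.{u}) : PicGrp.Law Y := M2.law Y

variable {S : Scheme.{u}}

/-- The projection square of a morphism of test objects. -/
theorem isPullback_whisker (A : Over S) {T T' : Over S} (g : T' ⟶ T) :
    IsPullback (A ◁ g).left (snd A T').left (snd A T).left g.left := by
  refine IsPullback.of_right (h₁₂ := (fst A T).left) (h₂₂ := T.hom) (v₁₃ := A.hom) ?_ ?_ ?_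
  · have h1 : (A ◁ g).left ≫ (fst A T).left = (fst A T').left := by
      rw [← Over.comp_left, whiskerLeft_fst]
    rw [h1, Over.w g]
    exact IsPullback.of_hasPullback A.hom T'.hom
  · rw [← Over.comp_left, whiskerLeft_snd, Over.comp_left]
  · exact IsPullback.of_hasPullback A.hom T.hom

/-- The square of a section over a point. -/
theorem isPullback_section {k : Type u} [Field k] {A T : Over (Spec (CommRingCat.of k))}
    (x : 𝟙_ (Over (Spec (CommRingCat.of k))) ⟶ T) :
    IsPullback (lift (𝟙 A) (toUnit A ≫ x)).left A.hom (snd A T).left x.left := by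
  have h0 : (toUnit A).left = A.hom := (Category.comp_id _).symm.trans (Over.w (toUnit A))
  refine IsPullback.of_right (h₁₂ := (fst A T).left) (h₂₂ := T.hom) (v₁₃ := A.hom) ?_ ?_ ?_
  · have h1 : (lift (𝟙 A) (toUnit A ≫ x)).left ≫ (fst A T).left = 𝟙 A.left := by
      rw [← Over.comp_left, lift_fst, Over.id_left]
    rw [h1, Over.w x]
    exact (IsPullback.of_horiz_isIso ⟨(Category.id_comp _).trans (Category.comp_id _).symm⟩ :
      IsPullback (𝟙 A.left) A.hom A.hom (𝟙 (Spec (CommRingCat.of k))))
  · rw [← Over.comp_left, lift_snd, Over.comp_left, h0]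
  · exact IsPullback.of_hasPullback A.hom T.hom

variable {A At : Over S} [GrpObj A] [GrpObj At] {φ : AgPol.DualMap A At}

/-- Modules with the same class are isomorphic. -/
theorem nonempty_iso_of_cls {X : Scheme.{u}} {L M : X.Modules} {hL : PicF.IsInvertible L}
    {hM : PicF.IsInvertible M} (h : PicGrp.cls L hL = PicGrp.cls M hM) : Nonempty (L ≅ M) :=
  (PicGrp.cl_eq_cl_iff _ _).1 (congrArg Subtype.val h)

variable {P : (PicF.XT A.hom At).Modules} (hP : PicF.IsInvertible P)
  (hξ : AbDual.IsPoincareCl A At φ (PicF.cl P))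

/-- The pairing is the pullback of the Poincaré module. -/
theorem ev_eq_cls {W : Over S} (x : W ⟶ A) (y : W ⟶ At) :
    ev hξ x y = PicGrp.cls ((Scheme.Modules.pullback (lift x y).left).obj P)
      (PicLoc.isInvertible_pullback _ hP) :=
  Subtype.ext rfl

variable [IsProper A.hom] [Smooth A.hom] [GeometricallyConnected A.hom]
  (hX : AbDual.IsDualAV Scheme.fppfPrecoverage A At φ)

include hX in
/-- Additivity of the pairing in the first variable. -/
theorem ev_mul_left [IsSeparated At.hom] {W : Over S} (x x' : W ⟶ A) (y : W ⟶ At) :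
    ev hξ (x * x') y = ev hξ x y * ev hξ x' y := by
  apply Subtype.ext
  rw [PicGrp.mul_val]
  exact Poincare22.pull_lift_mul hX hξ x x' y

include hP hξ hX in
/-- Translation in the dual variable twists the Poincaré module by a pullback from the first factor. -/
theorem nonempty_translate_right (x : 𝟙_ (Over S) ⟶ At) :
    Nonempty ((Scheme.Modules.pullback (A ◁ (𝟙 At * (toUnit At ≫ x))).left).obj P ≅
      CohB1.tensorMod ((Scheme.Modules.pullback (fst A At).left).obj
        ((Scheme.Modules.pullback (lift (𝟙 A) (toUnit A ≫ x)).left).obj P)) P) := by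
  refine nonempty_iso_of_cls (hL := PicLoc.isInvertible_pullback _ hP) (hM := M2.isInvertible_tensor
    (PicLoc.isInvertible_pullback _ (PicLoc.isInvertible_pullback _ hP)) hP) ?_
  rw [← AlgEquiv22.cls_tensor (PicLoc.isInvertible_pullback _ (PicLoc.isInvertible_pullback _ hP)) hP]
  have e0 : PicGrp.cls P hP = ev hξ (fst A At) (snd A At) := by
    apply Subtype.ext
    rw [ev, lift_fst_snd, PicGrp.pullHom_apply_val, Over.id_left]
    exact (PicLoc.pullCl_id _).symm
  have e1 : A ◁ (𝟙 At * (toUnit At ≫ x)) = lift (fst A At) (snd A At * (fst A At ≫ toUnit A ≫ x)) := by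
    apply CartesianMonoidalCategory.hom_ext
    · simp
    · simp only [whiskerLeft_snd, lift_snd, MonObj.comp_mul, Category.comp_id]
      rw [← Category.assoc, ← Category.assoc, toUnit_unique (snd A At ≫ toUnit At) (fst A At ≫ toUnit A)]
  have e2 : PicGrp.cls ((Scheme.Modules.pullback (A ◁ (𝟙 At * (toUnit At ≫ x))).left).obj P)
      (PicLoc.isInvertible_pullback _ hP) = ev hξ (fst A At) (snd A At * (fst A At ≫ toUnit A ≫ x)) := by
    apply Subtype.ext
    rw [ev, PicGrp.pullHom_apply_val, ← e1]
    rfl
  have e3 : PicGrp.cls ((Scheme.Modules.pullback (fst A At).left).obj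
      ((Scheme.Modules.pullback (lift (𝟙 A) (toUnit A ≫ x)).left).obj P))
      (PicLoc.isInvertible_pullback _ (PicLoc.isInvertible_pullback _ hP)) =
      pb (fst A At) (ev hξ (𝟙 A) (toUnit A ≫ x)) := Subtype.ext rfl
  rw [e2, e3, e0, pb_ev, Category.comp_id, ev_mul_right hX, mul_comm]

include hP hξ hX in
/-- The translation in the first variable carries the twisted Poincaré module back. -/
theorem nonempty_translate_left [IsSeparated At.hom] (x : 𝟙_ (Over S) ⟶ A) :
    Nonempty ((Scheme.Modules.pullback ((𝟙 A * (toUnit A ≫ x)) ▷ At).left).obj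
      (CohB1.tensorMod P ((Scheme.Modules.pullback (snd A At).left).obj
        ((Scheme.Modules.pullback (lift (toUnit At ≫ x⁻¹) (𝟙 At)).left).obj P))) ≅ P) := by
  have hi := M2.isInvertible_tensor hP (PicLoc.isInvertible_pullback (snd A At).left
    (PicLoc.isInvertible_pullback (lift (toUnit At ≫ x⁻¹) (𝟙 At)).left hP))
  refine nonempty_iso_of_cls (hL := PicLoc.isInvertible_pullback _ hi) (hM := hP) ?_
  have e0 : PicGrp.cls P hP = ev hξ (fst A At) (snd A At) := by
    apply Subtype.ext
    rw [ev, lift_fst_snd, PicGrp.pullHom_apply_val, Over.id_left]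
    exact (PicLoc.pullCl_id _).symm
  have e1 : PicGrp.cls _ (PicLoc.isInvertible_pullback
      ((𝟙 A * (toUnit A ≫ x)) ▷ At).left hi) =
      pb ((𝟙 A * (toUnit A ≫ x)) ▷ At) (PicGrp.cls _ hi) := (PicGrp.pullHom_cls _ _ _ _).symm
  rw [e1, ← AlgEquiv22.cls_tensor hP (PicLoc.isInvertible_pullback _ (PicLoc.isInvertible_pullback _ hP)), map_mul]
  have e2 : PicGrp.cls ((Scheme.Modules.pullback (snd A At).left).obj
      ((Scheme.Modules.pullback (lift (toUnit At ≫ x⁻¹) (𝟙 At)).left).obj P))
      (PicLoc.isInvertible_pullback _ (PicLoc.isInvertible_pullback _ hP)) =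
      pb (snd A At) (ev hξ (toUnit At ≫ x⁻¹) (𝟙 At)) := Subtype.ext rfl
  rw [e2, e0, pb_pb, pb_ev, pb_ev, whiskerRight_fst, whiskerRight_snd, Category.comp_id, MonObj.comp_mul,
    ev_mul_left hξ hX, mul_assoc, ← ev_mul_left hξ hX, Category.comp_id]
  have e3 : fst A At ≫ toUnit A ≫ x * snd A At ≫ toUnit At ≫ x⁻¹ = 1 := by
    rw [← Category.assoc, ← Category.assoc, toUnit_unique (snd A At ≫ toUnit At) (fst A At ≫ toUnit A),
      ← MonObj.comp_mul, mul_inv_cancel, MonObj.comp_one]
  rw [e3, ev_one_left, mul_one]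

end Groth.Agent.FMBase13

end
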