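import Groth.Agent.Lib.FMBase13.Classes
import Groth.Agent.Lib.RR22.RR
import Groth.Agent.Lib.RR22.Classify
import Groth.Agent.Lib.RRKL13.RR
import Groth.Agent.Lib.RRKL13.BaseChange
import Groth.Agent.Lib.Seesaw13.KL
import Groth.Agent.Lib.AbRigid.SmoothGI

/-!
# A Poincaré module is also non-degenerate in the first variable
-/

set_option autoImplicit false
set_option linter.style.haveILetI false
set_option linter.unusedSectionVars false
set_option backward.isDefEq.respectTransparency false
set_option backward.isDefEq.respectTransparency.types false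
set_option maxHeartbeats 1600000

universe u

open CategoryTheory CategoryTheory.Limits MonoidalCategory CartesianMonoidalCategory AlgebraicGeometry
open scoped MonObj GrpObj

noncomputable section

namespace Groth.Agent.FMBase13

open Groth.Agent.AbDual21 Groth.Agent.PicDesc21 Groth.Agent.AgPol22 Groth.Agent.Index22

noncomputable local instance instLawFMSwap (Y : Scheme.{u}) : PicGrp.Law Y := M2.law Y

variable {k : Type u} [Field k]

/-- `K(L)` of a module of Euler characteristic `±1` is a point. -/
theorem eq_one_of_euler_sq {B : Over (Spec (CommRingCat.of k))} [GrpObj B] [IsProper B.hom]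
    [GeometricallyIntegral B.hom] {g : ℕ} (hg : topologicalKrullDim B.left = g) {L : B.left.Modules}
    (hL : PicF.IsInvertible L) (he : @Curv2.euler k _ B.left ⟨B.hom⟩ L ^ 2 = 1) {T : Over (Spec (CommRingCat.of k))}
    (z : T ⟶ B) (hz : ThetaGrp.IsMumfordTriv B L z) : z = 1 := by
  obtain ⟨K, i, hK⟩ := Seesaw13.exists_isKL (A := B) hL
  haveI : IsProper (bar B).hom := MorphismProperty.pullback_snd _ _ inferInstance
  haveI : GeometricallyIntegral (bar B).hom := MorphismProperty.pullback_snd _ _ inferInstance
  haveI := isCommMonObj_of_isProper_of_geometricallyIntegral (bar B)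
  have hLb : PicF.IsInvertible ((Scheme.Modules.pullback (prj B)).obj L) := PicLoc.isInvertible_pullback _ hL
  have hKb := RRKL13.isKL_bar hL hK
  have heb : @Curv2.euler (AlgebraicClosure k) _ (bar B).left ⟨(bar B).hom⟩
      ((Scheme.Modules.pullback (prj B)).obj L) ^ 2 = 1 := by rw [RR22.euler_bar hL, he]
  haveI : IsFinite ((Over.pullback (φbar k)).obj K).hom :=
    RRKL13.isFinite_of_euler_ne_zero hLb hKb fun h => absurd ((congrArg (fun n : ℤ => n ^ 2) h).symm.trans heb) (by norm_num)
  let d := Scheme.Hom.finrank ((Over.pullback (φbar k)).obj K).hom (IsLocalRing.closedPoint (AlgebraicClosure k))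
  have hd : ∀ s : ↥(Spec (CommRingCat.of (AlgebraicClosure k))),
      Scheme.Hom.finrank ((Over.pullback (φbar k)).obj K).hom s = d := fun s => by
    rw [@Subsingleton.elim _ (inferInstanceAs (Subsingleton (PrimeSpectrum (AlgebraicClosure k)))) s
      (IsLocalRing.closedPoint _)]
  have hd1 : d = 1 := by
    have h := RRKL13.euler_sq_KL hLb hKb hd ((topologicalKrullDim_bar (A := B)).trans hg)
    rw [heb] at h
    exact_mod_cast h.symm
  haveI : Flat ((Over.pullback (φbar k)).obj K).hom := inferInstance
  haveI : IsIso ((Over.pullback (φbar k)).obj K).hom :=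
    (Scheme.Hom.isIso_iff_finrank_eq _).2 (funext fun s => (hd s).trans hd1)
  haveI hepi : Epi (pullback.fst T.hom (φbar k)) := by
    haveI : Surjective (φbar k) := ⟨fun x => ⟨IsLocalRing.closedPoint (AlgebraicClosure k),
      @Subsingleton.elim _ (inferInstanceAs (Subsingleton (PrimeSpectrum k))) _ _⟩⟩
    haveI : Flat (φbar k) := inferInstance
    exact Flat.epi_of_flat_of_surjective _
  have hone : ThetaGrp.IsMumfordTriv B L (1 : T ⟶ B) := by
    refine (CubeField.isMumfordTriv_iff hL _).2 ?_
    rw [MonObj.comp_one, _root_.mul_one, Hom.one_def, CubeField.P_const, _root_.mul_one]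
  obtain ⟨y, hy⟩ := (hK.univ T z).1 hz
  obtain ⟨y₁, hy₁⟩ := (hK.univ T 1).1 hone
  rw [← hy, ← hy₁]
  refine congrArg (· ≫ i) ?_
  have h : ((Over.pullback (φbar k)).map y).left = ((Over.pullback (φbar k)).map y₁).left :=
    (cancel_mono ((Over.pullback (φbar k)).obj K).hom).1 ((Over.w _).trans (Over.w _).symm)
  have h' := congrArg (· ≫ pullback.fst K.hom (φbar k)) h
  ext1
  refine (cancel_epi (pullback.fst T.hom (φbar k))).1 ?_
  simpa using h'

variable {A At : Over (Spec (CommRingCat.of k))} [GrpObj A] [GrpObj At]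
  [IsProper A.hom] [Smooth A.hom] [GeometricallyConnected A.hom] [IsProper At.hom] [Smooth At.hom]
  [GeometricallyIntegral At.hom] [GeometricallyConnected At.hom]
  {φ : AgPol.DualMap A At} {P : (PicF.XT A.hom At).Modules}

/-- A point of `A` whose pairing with all of `At` is trivial is the origin. -/
theorem eq_one_of_ev (hφ : AbDual.IsDualAV Scheme.fppfPrecoverage A At φ) (hP : PicF.IsInvertible P)
    (hξ : AbDual.IsPoincareCl A At φ (PicF.cl P)) {g : ℕ} (hg : topologicalKrullDim A.left = g)
    {T : Over (Spec (CommRingCat.of k))} (q : T ⟶ A)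
    (h : ev hξ (snd At T ≫ q) (fst At T) = 1) : q = 1 := by
  haveI : GeometricallyIntegral A.hom := AbRigid.geometricallyIntegral_of_smooth A
  haveI : IsProper (A ⊗ At).hom := inferInstanceAs (IsProper (pullback.fst A.hom At.hom ≫ A.hom))
  haveI : GeometricallyIntegral (A ⊗ At).hom := AbRigid.geometricallyIntegral_tensorObj A At
  obtain ⟨G, hG⟩ := Index22.exists_dim (A := A ⊗ At)
  have hz : ThetaGrp.IsMumfordTriv (A ⊗ At) P (lift q 1) := by
    refine (CubeField.isMumfordTriv_iff hP _).2 ?_
    have hPev : ∀ {V : Over (Spec (CommRingCat.of k))} (f : V ⟶ A ⊗ At),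
        CubeField.P P hP f = ev hξ (f ≫ fst A At) (f ≫ snd A At) := fun f => by
      rw [show CubeField.P P hP f = pb f (PicGrp.cls P hP) from (PicGrp.pullHom_cls _ _ _ _).symm, ev,
        show lift (f ≫ fst A At) (f ≫ snd A At) = f by apply CartesianMonoidalCategory.hom_ext <;> simp]
      rfl
    simp only [hPev, MonObj.mul_comp, Category.assoc, lift_fst, lift_snd, MonObj.comp_one, _root_.mul_one,
      ev_one_right hφ hξ]
    rw [ev_mul_left hξ hφ]
    have h' := congrArg (pb (lift (fst (A ⊗ At) T ≫ snd A At) (snd (A ⊗ At) T))) h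
    rw [pb_ev, map_one, lift_snd_assoc, lift_fst] at h'
    rw [h', _root_.mul_one]
  have he : @Curv2.euler k _ (A ⊗ At).left ⟨(A ⊗ At).hom⟩ P ^ 2 = 1 := by
    rw [RR22.euler_poincare hφ hP hξ hg, ← pow_mul, mul_comm, pow_mul, neg_one_sq, one_pow]
  have h1 := congrArg (· ≫ fst A At) (eq_one_of_euler_sq hG hP he _ hz)
  simpa [MonObj.one_comp] using h1

end Groth.Agent.FMBase13

end
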