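import Groth.Agent.Lib.FMBase13.Functors
import Groth.Agent.Lib.FMBase13.Swap
import Groth.Agent.Lib.Poinc13.Push
import Groth.Agent.Lib.AbDual22.Biduality

/-!
# Fourier–Mukai inversion
-/

set_option autoImplicit false
set_option linter.style.haveILetI false
set_option linter.unusedSectionVars false
set_option backward.isDefEq.respectTransparency false
set_option backward.isDefEq.respectTransparency.types false
set_option maxHeartbeats 3200000

universe u

open CategoryTheory CategoryTheory.Limits MonoidalCategory CartesianMonoidalCategory AlgebraicGeometry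
open scoped MonObj GrpObj

attribute [local instance] HasDerivedCategory.standard

noncomputable section

namespace Groth.Agent.FMBase13

open Groth.Agent.AbDual21 Groth.Agent.PicDesc21 Groth.Agent.AgPol22
open DMon9 DBC9 TwistBC9

attribute [local instance] DBC9.hasRpush

noncomputable local instance instLawFMInv (Y : Scheme.{u}) : PicGrp.Law Y := M2.law Y

variable {k : Type u} [Field k] {A At : Over (Spec (CommRingCat.of k))} [GrpObj A] [GrpObj At]
  [IsProper A.hom] [Smooth A.hom] [GeometricallyConnected A.hom]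
  [IsProper At.hom] [Smooth At.hom] [GeometricallyConnected At.hom]
  {φ : AgPol.DualMap A At} (hφ : AbDual.IsDualAV Scheme.fppfPrecoverage A At φ)
  {P : (PicF.XT A.hom At).Modules} (hP : PicF.IsInvertible P) (hξ : AbDual.IsPoincareCl A At φ (PicF.cl P))
  {g : ℕ} (hg : topologicalKrullDim A.left = g)

/-- The swapped module. -/
abbrev swP (P : (PicF.XT A.hom At).Modules) : (PicF.XT At.hom A).Modules :=
  (Scheme.Modules.pullback (AbDual22.sw At A).left).obj P

theorem cl_pull_swP {V : Over (Spec (CommRingCat.of k))} (a : V ⟶ At) (b : V ⟶ A) :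
    PicF.pullCl (lift a b).left (PicF.cl (swP P)) = (ev hξ b a).1 := by
  rw [← PicLoc.pullCl_cl, pullCl_pullCl, ← Over.comp_left,
    show lift a b ≫ AbDual22.sw At A = lift b a by apply CartesianMonoidalCategory.hom_ext <;> simp [AbDual22.sw]]
  rfl

include hφ hP hξ hg in
/-- The swapped module has the properties of a Poincaré module. -/
theorem isPLike_swP : topologicalKrullDim At.left = g ∧ Poinc13.IsPLike At A (swP P) := by
  haveI : GeometricallyIntegral A.hom := AbRigid.geometricallyIntegral_of_smooth A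
  haveI : GeometricallyIntegral At.hom := AbRigid.geometricallyIntegral_of_smooth At
  obtain ⟨hgt, -⟩ := Poincare22.exists_local hφ hP hξ hg
  refine ⟨hgt, ⟨fun {V} f h t => ?_, fun {T} q => ?_, le_of_eq (hgt.trans hg.symm)⟩⟩
  · rw [cl_pull_swP hξ, cl_pull_swP hξ, cl_pull_swP hξ, ← PicGrp.mul_val, ev_mul_right hφ hξ]
  · have e : PicF.pullCl (At ◁ q).left (PicF.cl (swP P)) = (ev hξ (snd At T ≫ q) (fst At T)).1 := by
      rw [← cl_pull_swP hξ]
      congr 2
    rw [e, show triv At T = (1 : PicLoc.PicSet (At ⊗ T).left).1 from PicGrp.one_val.symm]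
    constructor
    · intro h
      exact eq_one_of_ev hφ hP hξ hg q (Subtype.ext h)
    · intro h
      rw [h, MonObj.comp_one, ev_one_left hξ]

include hφ hP hξ hg in
/-- The projection to `A` of the Poincaré module is the origin in degree `g`. -/
theorem nonempty_rpush_fst :
    Nonempty ((DCoh.Rpush (fst A At).left).obj ((DerivedCategory.singleFunctor (A ⊗ At).left.Modules 0).obj P) ≅
      (shiftFunctor (DCoh.D A.left) (-(g : ℤ))).obj ((DCoh.Rpush η[A].left).obj
        ((DerivedCategory.singleFunctor (Spec (CommRingCat.of k)).Modules 0).obj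
          (Coh.structureModule (Spec (CommRingCat.of k)))))) := by
  haveI : GeometricallyIntegral A.hom := AbRigid.geometricallyIntegral_of_smooth A
  haveI : GeometricallyIntegral At.hom := AbRigid.geometricallyIntegral_of_smooth At
  obtain ⟨hgt, hD⟩ := isPLike_swP hφ hP hξ hg
  obtain ⟨e⟩ := Poinc13.nonempty_rpush_origin (A := At) (At := A) (PicLoc.isInvertible_pullback _ hP) hD hgt
  haveI : IsProper (fst A At).left := inferInstanceAs (IsProper (pullback.fst A.hom At.hom))
  haveI : Flat (fst A At).left := inferInstanceAs (Flat (pullback.fst A.hom At.hom))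
  haveI : IsIso (AbDual22.sw At A) := ⟨AbDual22.sw A At,
    by apply CartesianMonoidalCategory.hom_ext <;> simp [AbDual22.sw],
    by apply CartesianMonoidalCategory.hom_ext <;> simp [AbDual22.sw]⟩
  haveI : IsIso (AbDual22.sw At A).left := inferInstanceAs (IsIso ((Over.forget _).map (AbDual22.sw At A)))
  have hsq : IsPullback (AbDual22.sw At A).left (snd At A).left (fst A At).left (𝟙 A.left) :=
    IsPullback.of_horiz_isIso ⟨by
      rw [← Over.comp_left, Category.comp_id, show AbDual22.sw At A ≫ fst A At = snd At A by simp [AbDual22.sw]]⟩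
  obtain ⟨b⟩ := nonempty_bc_inD hsq P (Twist.isQCoh_of_isInvertible hP) (isFlatOver_of_isInvertible _ hP)
  exact ⟨((lPId A.left).app _).symm ≪≫ b ≪≫ e⟩

/-- The graph of inversion. -/
abbrev negGraph (A : Over (Spec (CommRingCat.of k))) [GrpObj A] : A ⟶ A ⊗ A := lift (𝟙 A) (𝟙 A)⁻¹

/-- The sum map on pairs and a point of the dual. -/
abbrev sumMap (A At : Over (Spec (CommRingCat.of k))) [GrpObj A] : (A ⊗ A) ⊗ At ⟶ A ⊗ At :=
  lift (fst (A ⊗ A) At ≫ (fst A A * snd A A)) (snd (A ⊗ A) At)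

omit [IsProper A.hom] [Smooth A.hom] [GeometricallyConnected A.hom] in
theorem isPullback_negGraph :
    IsPullback (toUnit A).left (negGraph A).left η[A].left (fst A A * snd A A).left := by
  refine IsPullback.map (Over.forget _) (show IsPullback (toUnit A) (negGraph A) η[A] (fst A A * snd A A) from
    IsPullback.mk ?_ ⟨PullbackCone.IsLimit.mk _
    (fun s => s.snd ≫ fst A A) (fun s => toUnit_unique _ _) (fun s => ?_) (fun s m _ hm => ?_)⟩)
  · exact ⟨by rw [← Hom.one_def, MonObj.comp_mul, lift_fst, lift_snd, mul_inv_cancel]⟩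
  · apply CartesianMonoidalCategory.hom_ext
    · simp
    · have h := s.condition
      rw [MonObj.comp_mul, toUnit_unique s.fst (toUnit _), ← Hom.one_def] at h
      simp only [Category.assoc, lift_snd, GrpObj.comp_inv, Category.comp_id]
      exact inv_eq_of_mul_eq_one_right h.symm
  · rw [← hm]; simp

omit [GeometricallyConnected A.hom] in
theorem flat_sum : Flat (fst A A * snd A A).left := by
  let sA : A ⊗ A ⟶ A ⊗ A := lift (fst A A * snd A A) (snd A A)
  haveI : IsIso sA := ⟨lift (fst A A * (snd A A)⁻¹) (snd A A),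
    by apply CartesianMonoidalCategory.hom_ext <;> simp [sA, MonObj.comp_mul, GrpObj.comp_inv],
    by apply CartesianMonoidalCategory.hom_ext <;> simp [sA, MonObj.comp_mul]⟩
  haveI : IsIso sA.left := inferInstanceAs (IsIso ((Over.forget _).map sA))
  haveI : Flat (fst A A).left := inferInstanceAs (Flat (pullback.fst A.hom A.hom))
  have h : (fst A A * snd A A).left = sA.left ≫ (fst A A).left := by rw [← Over.comp_left, lift_fst]
  rw [h]
  infer_instance

variable (hor : Nonempty ((DCoh.Rpush (fst A At).left).obj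
    ((DerivedCategory.singleFunctor (A ⊗ At).left.Modules 0).obj P) ≅
  (shiftFunctor (DCoh.D A.left) (-(g : ℤ))).obj ((DCoh.Rpush η[A].left).obj
    ((DerivedCategory.singleFunctor (Spec (CommRingCat.of k)).Modules 0).obj
      (Coh.structureModule (Spec (CommRingCat.of k)))))))
  (hmul : ∀ {W : Over (Spec (CommRingCat.of k))} (x x' : W ⟶ A) (y : W ⟶ At),
    PicF.pullCl (lift (x * x') y).left (PicF.cl P) =
      PicGrp.mulCl (PicF.pullCl (lift x y).left (PicF.cl P)) (PicF.pullCl (lift x' y).left (PicF.cl P)))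

include hP hor in
/-- The kernel of the composite. -/
theorem nonempty_kernel :
    Nonempty ((DCoh.Rpush (fst (A ⊗ A) At).left).obj
        ((DerivedCategory.singleFunctor ((A ⊗ A) ⊗ At).left.Modules 0).obj
          ((Scheme.Modules.pullback (sumMap A At).left).obj P)) ≅
      (shiftFunctor (DCoh.D (A ⊗ A).left) (-(g : ℤ))).obj ((DCoh.Rpush (negGraph A).left).obj
        ((DerivedCategory.singleFunctor A.left.Modules 0).obj (Coh.structureModule A.left)))) := by
  haveI : IsProper (fst A At).left := inferInstanceAs (IsProper (pullback.fst A.hom At.hom))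
  haveI : Flat (fst A At).left := inferInstanceAs (Flat (pullback.fst A.hom At.hom))
  haveI := flat_sum (A := A)
  have hsq : IsPullback (sumMap A At).left (fst (A ⊗ A) At).left (fst A At).left (fst A A * snd A A).left := by
    refine IsPullback.of_right (h₁₂ := (snd A At).left) (h₂₂ := A.hom) (v₁₃ := At.hom) ?_ ?_ ?_
    · rw [← Over.comp_left, lift_snd, Over.w (fst A A * snd A A)]
      exact (IsPullback.of_hasPullback (A ⊗ A).hom At.hom).flip
    · rw [← Over.comp_left, lift_fst, Over.comp_left]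
    · exact (IsPullback.of_hasPullback A.hom At.hom).flip
  obtain ⟨b⟩ := nonempty_bc_inD hsq P (Twist.isQCoh_of_isInvertible hP) (isFlatOver_of_isInvertible _ hP)
  obtain ⟨o⟩ := hor
  haveI : IsClosedImmersion η[A].left := isClosedImmersion_of_comp_eq_id A.hom η[A].left (Over.w η[A])
  obtain ⟨fb⟩ := nonempty_flatBC (isPullback_negGraph (A := A))
  obtain ⟨e1⟩ := nonempty_lP_modM (toUnit A).left
    (PicLoc.isInvertible_structureModule (Spec (CommRingCat.of k)))
  obtain ⟨hsh, -⟩ := DPush.exists_commShift_isTriangulated (fst A A * snd A A).left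
  letI := hsh
  letI := (adjLP (fst A A * snd A A).left).leftAdjointCommShift ℤ
  exact ⟨b.symm ≪≫ (lP (fst A A * snd A A).left).mapIso o ≪≫
    ((lP (fst A A * snd A A).left).commShiftIso (-(g : ℤ))).app _ ≪≫
    (shiftFunctor (DCoh.D (A ⊗ A).left) (-(g : ℤ))).mapIso
      (fb.app ⟨(DerivedCategory.singleFunctor (Spec (CommRingCat.of k)).Modules 0).obj
          (Coh.structureModule (Spec (CommRingCat.of k))), isQCohD_inD _ (M1.isQCoh_structureModule _) 0⟩ ≪≫
        (DCoh.Rpush (negGraph A).left).mapIso (e1 ≪≫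
          (DerivedCategory.singleFunctor A.left.Modules 0).mapIso (PicLoc.pullbackStructureIso _)))⟩

/-- The reordering of the triple product. -/
abbrev reord (A At : Over (Spec (CommRingCat.of k))) : (A ⊗ A) ⊗ At ≅ A ⊗ (At ⊗ A) where
  hom := lift (fst (A ⊗ A) At ≫ fst A A) (lift (snd (A ⊗ A) At) (fst (A ⊗ A) At ≫ snd A A))
  inv := lift (lift (fst A (At ⊗ A)) (snd A (At ⊗ A) ≫ snd At A)) (snd A (At ⊗ A) ≫ fst At A)
  hom_inv_id := by
    apply CartesianMonoidalCategory.hom_ext
    · apply CartesianMonoidalCategory.hom_ext <;> simp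
    · simp
  inv_hom_id := by
    apply CartesianMonoidalCategory.hom_ext
    · simp
    · apply CartesianMonoidalCategory.hom_ext <;> simp

include hP hor hmul in
/-- Fourier–Mukai inversion for a kernel that is additive in the first variable and whose projection is the origin. -/
theorem nonempty_inversion_gen :
    Nonempty (ObjectProperty.ι (DCoh.IsQCohD (X := A.left)) ⋙ phiK (fst A At).left (snd A At).left P ⋙
        phiK (fst At A).left (snd At A).left (swP P) ≅
      ObjectProperty.ι (DCoh.IsQCohD (X := A.left)) ⋙ lP ((𝟙 A)⁻¹).left ⋙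
        shiftFunctor (DCoh.D A.left) (-(g : ℤ))) := by
  haveI : IsProper (snd A At).left := inferInstanceAs (IsProper (pullback.snd A.hom At.hom))
  haveI : Flat (snd A At).left := inferInstanceAs (Flat (pullback.snd A.hom At.hom))
  let Y := (A ⊗ A) ⊗ At
  let g' : Y ⟶ A ⊗ At := lift (fst (A ⊗ A) At ≫ fst A A) (snd (A ⊗ A) At)
  let q' : Y ⟶ At ⊗ A := lift (snd (A ⊗ A) At) (fst (A ⊗ A) At ≫ snd A A)
  have hsq : IsPullback g'.left q'.left (snd A At).left (fst At A).left := by
    refine IsPullback.of_right (h₁₂ := (fst A At).left) (h₂₂ := At.hom) (v₁₃ := A.hom) ?_ ?_ ?_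
    · rw [← Over.comp_left, lift_fst, Over.w (fst At A)]
      refine IsPullback.of_iso (IsPullback.of_hasPullback A.hom (At ⊗ A).hom)
        ((Over.forget _).mapIso (reord A At).symm) (Iso.refl _) (Iso.refl _) (Iso.refl _) ?_ ?_ (by simp) (by simp)
      · simp only [Functor.mapIso_hom, Iso.symm_hom, Iso.refl_hom, Category.comp_id, Over.forget_map]
        rw [← Over.comp_left]
        exact congrArg Over.Hom.left (show (reord A At).inv ≫ fst (A ⊗ A) At ≫ fst A A = fst A (At ⊗ A) by simp).symm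
      · simp only [Functor.mapIso_hom, Iso.symm_hom, Iso.refl_hom, Category.comp_id, Over.forget_map]
        rw [← Over.comp_left]
        exact congrArg Over.Hom.left (show (reord A At).inv ≫ q' = snd A (At ⊗ A) by
          apply CartesianMonoidalCategory.hom_ext <;> simp [q']).symm
    · rw [← Over.comp_left, ← Over.comp_left, lift_snd, lift_fst]
    · exact IsPullback.of_hasPullback A.hom At.hom
  obtain ⟨c⟩ := nonempty_phiK_BC (fst A At).left (snd A At).left hsq hP
  have hP' : PicF.IsInvertible (swP P) := PicLoc.isInvertible_pullback _ hP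
  obtain ⟨t⟩ := nonempty_pushTwist q'.left hP'
  obtain ⟨tc⟩ := nonempty_tenComp ((Scheme.Modules.pullback g'.left).obj P)
    (PicLoc.isInvertible_pullback q'.left hP')
  let M := (Scheme.Modules.pullback (sumMap A At).left).obj P
  -- the kernel is the pullback along the sum
  obtain ⟨eM⟩ : Nonempty (CohB1.tensorMod ((Scheme.Modules.pullback g'.left).obj P)
      ((Scheme.Modules.pullback q'.left).obj (swP P)) ≅ M) := by
    refine nonempty_iso_of_cls (hL := M2.isInvertible_tensor (PicLoc.isInvertible_pullback _ hP)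
      (PicLoc.isInvertible_pullback _ hP')) (hM := PicLoc.isInvertible_pullback _ hP) ?_
    rw [← AlgEquiv22.cls_tensor (PicLoc.isInvertible_pullback _ hP) (PicLoc.isInvertible_pullback _ hP')]
    apply Subtype.ext
    rw [PicGrp.mul_val, PicGrp.cls_val, PicGrp.cls_val, PicGrp.cls_val, ← PicLoc.pullCl_cl, ← PicLoc.pullCl_cl,
      ← PicLoc.pullCl_cl, ← PicLoc.pullCl_cl, pullCl_pullCl, ← Over.comp_left,
      show q' ≫ AbDual22.sw At A = lift (fst (A ⊗ A) At ≫ snd A A) (snd (A ⊗ A) At) by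
        apply CartesianMonoidalCategory.hom_ext <;> simp [q', AbDual22.sw],
      ← hmul, ← MonObj.comp_mul]
  let w := (fst (A ⊗ A) At).left
  haveI : IsProper w := inferInstanceAs (IsProper (pullback.fst (A ⊗ A).hom At.hom))
  obtain ⟨pf⟩ := nonempty_projFunctor w (PicLoc.isInvertible_pullback (sumMap A At).left hP : PicF.IsInvertible M)
  obtain ⟨ker⟩ := nonempty_kernel hP hor
  let j := (negGraph A).left
  haveI : IsProper (fst A A).left := inferInstanceAs (IsProper (pullback.fst A.hom A.hom))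
  haveI : IsClosedImmersion j := by
    haveI : IsClosedImmersion (j ≫ (fst A A).left) := by
      rw [← Over.comp_left, lift_fst, Over.id_left]; infer_instance
    exact MorphismProperty.of_postcomp (W := @IsClosedImmersion) (W' := @IsSeparated) j (fst A A).left
      inferInstance ‹_›
  obtain ⟨pj⟩ := nonempty_projFunctor j (PicLoc.isInvertible_structureModule A.left)
  obtain ⟨sh⟩ := nonempty_shift_tensor (X := (A ⊗ A).left) (g : ℤ)
  obtain ⟨rs⟩ := nonempty_rpush_shift (snd A A).left (-(g : ℤ))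
  -- the kernel with the shift on the right
  let X₀ : DM (A ⊗ A).left := (rM j).obj (modM (Coh.structureModule A.left))
  let eX : (rM w).obj (modM M) ≅ X₀ ⊗ oneM (A ⊗ A).left (g : ℤ) :=
    (ker ≪≫ (sh.app (X₀ : DCoh.D (A ⊗ A).left)).symm :)
  let kIso : ((tensorRight ((rM w).obj (modM M)) : DM _ ⥤ DM _) : DCoh.D (A ⊗ A).left ⥤ DCoh.D (A ⊗ A).left) ≅
      ((tensorRight X₀ : DM _ ⥤ DM _) : DCoh.D (A ⊗ A).left ⥤ DCoh.D (A ⊗ A).left) ⋙
        shiftFunctor (DCoh.D (A ⊗ A).left) (-(g : ℤ)) :=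
    ((MonoidalCategory.tensoringRight (DM (A ⊗ A).left)).mapIso eX ≪≫
      MonoidalCategory.tensorRightTensor X₀ (oneM (A ⊗ A).left (g : ℤ)) :) ≪≫
    Functor.isoWhiskerLeft ((tensorRight X₀ : DM _ ⥤ DM _) : DCoh.D (A ⊗ A).left ⥤ DCoh.D (A ⊗ A).left) sh
  -- composites
  let L : (DCoh.IsQCohD (X := A.left)).FullSubcategory ⥤ (DCoh.IsQCohD (X := (A ⊗ A).left)).FullSubcategory :=
    ObjectProperty.lift _ (ObjectProperty.ι (DCoh.IsQCohD (X := A.left)) ⋙ lP (fst A A).left)
      fun E => isQCohD_lP _ E.property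
  have h1 : g'.left ≫ (fst A At).left = w ≫ (fst A A).left := by
    simp only [w, g', ← Over.comp_left, lift_fst]
  have h2 : q'.left ≫ (snd At A).left = w ≫ (snd A A).left := by
    simp only [w, q', ← Over.comp_left, lift_snd]
  have h3 : j ≫ (fst A A).left = 𝟙 A.left := by rw [← Over.comp_left, lift_fst, Over.id_left]
  have h4 : j ≫ (snd A A).left = ((𝟙 A)⁻¹).left := by rw [← Over.comp_left, lift_snd]
  let ιA := ObjectProperty.ι (DCoh.IsQCohD (X := A.left))
  let s0 : ιA ⋙ phiK (fst A At).left (snd A At).left P ⋙ phiK (fst At A).left (snd At A).left (swP P) ≅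
      ιA ⋙ (lP (g'.left ≫ (fst A At).left) ⋙ tenF ((Scheme.Modules.pullback g'.left).obj P) ⋙
        DCoh.Rpush q'.left) ⋙ (tenF (swP P) ⋙ DCoh.Rpush (snd At A).left) :=
    Functor.isoWhiskerRight c (tenF (swP P) ⋙ DCoh.Rpush (snd At A).left)
  let s1 : ιA ⋙ (lP (g'.left ≫ (fst A At).left) ⋙ tenF ((Scheme.Modules.pullback g'.left).obj P) ⋙
        DCoh.Rpush q'.left) ⋙ (tenF (swP P) ⋙ DCoh.Rpush (snd At A).left) ≅
      ιA ⋙ lP (w ≫ (fst A A).left) ⋙ tenF M ⋙ DCoh.Rpush (w ≫ (snd A A).left) :=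
    Functor.isoWhiskerLeft ιA
      (Functor.isoWhiskerLeft (lP (g'.left ≫ (fst A At).left)) (Functor.isoWhiskerLeft (tenF _)
          (Functor.isoWhiskerRight t (DCoh.Rpush (snd At A).left)) ≪≫
        Functor.isoWhiskerRight (tc ≪≫ tenIso eM) (DCoh.Rpush q'.left ⋙ DCoh.Rpush (snd At A).left) ≪≫
        Functor.isoWhiskerLeft (tenF M) (rpushComp q'.left (snd At A).left h2)) ≪≫
      Functor.isoWhiskerRight (eqToIso (congrArg lP h1)) (tenF M ⋙ DCoh.Rpush (w ≫ (snd A A).left)))
  let s2 : ιA ⋙ lP (w ≫ (fst A A).left) ⋙ tenF M ⋙ DCoh.Rpush (w ≫ (snd A A).left) ≅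
      ιA ⋙ (lP (fst A A).left ⋙ lP w) ⋙ tenF M ⋙ (DCoh.Rpush w ⋙ DCoh.Rpush (snd A A).left) :=
    Functor.isoWhiskerLeft ιA (Functor.isoWhiskerRight (lPComp w (fst A A).left rfl).symm _ ≪≫
      Functor.isoWhiskerLeft _ (Functor.isoWhiskerLeft (tenF M) (rpushComp w (snd A A).left rfl).symm))
  let s3 : ιA ⋙ (lP (fst A A).left ⋙ lP w) ⋙ tenF M ⋙ (DCoh.Rpush w ⋙ DCoh.Rpush (snd A A).left) ≅
      L ⋙ ObjectProperty.ι _ ⋙ (((tensorRight X₀ : DM _ ⥤ DM _) : DCoh.D (A ⊗ A).left ⥤ DCoh.D (A ⊗ A).left) ⋙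
        shiftFunctor (DCoh.D (A ⊗ A).left) (-(g : ℤ))) ⋙ DCoh.Rpush (snd A A).left :=
    Functor.isoWhiskerLeft L (Functor.isoWhiskerRight (pf ≪≫ Functor.isoWhiskerLeft _ kIso)
      (DCoh.Rpush (snd A A).left))
  let s4 : L ⋙ ObjectProperty.ι _ ⋙ (((tensorRight X₀ : DM _ ⥤ DM _) : DCoh.D (A ⊗ A).left ⥤ DCoh.D (A ⊗ A).left) ⋙
        shiftFunctor (DCoh.D (A ⊗ A).left) (-(g : ℤ))) ⋙ DCoh.Rpush (snd A A).left ≅
      ιA ⋙ (lP (fst A A).left ⋙ lP j) ⋙ tenF (Coh.structureModule A.left) ⋙
        (DCoh.Rpush j ⋙ DCoh.Rpush (snd A A).left) ⋙ shiftFunctor (DCoh.D A.left) (-(g : ℤ)) :=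
    (Functor.isoWhiskerLeft L (Functor.isoWhiskerLeft (ObjectProperty.ι _) (Functor.isoWhiskerLeft
        ((tensorRight X₀ : DM _ ⥤ DM _) : DCoh.D (A ⊗ A).left ⥤ DCoh.D (A ⊗ A).left) rs)) :
      L ⋙ ObjectProperty.ι _ ⋙ (((tensorRight X₀ : DM _ ⥤ DM _) : DCoh.D (A ⊗ A).left ⥤ DCoh.D (A ⊗ A).left) ⋙
          shiftFunctor (DCoh.D (A ⊗ A).left) (-(g : ℤ))) ⋙ DCoh.Rpush (snd A A).left ≅
        L ⋙ (ObjectProperty.ι _ ⋙ ((tensorRight X₀ : DM _ ⥤ DM _) : DCoh.D (A ⊗ A).left ⥤ DCoh.D (A ⊗ A).left)) ⋙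
          (DCoh.Rpush (snd A A).left ⋙ shiftFunctor (DCoh.D A.left) (-(g : ℤ)))) ≪≫
    Functor.isoWhiskerLeft L
      (Functor.isoWhiskerRight pj.symm (DCoh.Rpush (snd A A).left ⋙ shiftFunctor (DCoh.D A.left) (-(g : ℤ))))
  -- inversion is an involution
  haveI : IsIso ((𝟙 A)⁻¹ : A ⟶ A) := ⟨(𝟙 A)⁻¹, by simp [GrpObj.comp_inv], by simp [GrpObj.comp_inv]⟩
  have hi : ((𝟙 A)⁻¹ : A ⟶ A).left ≫ ((𝟙 A)⁻¹ : A ⟶ A).left = 𝟙 A.left := by
    rw [← Over.comp_left, show ((𝟙 A)⁻¹ : A ⟶ A) ≫ (𝟙 A)⁻¹ = 𝟙 A by simp [GrpObj.comp_inv], Over.id_left]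
  let inv' := ((𝟙 A)⁻¹ : A ⟶ A).left
  let ii : lP inv' ⋙ lP inv' ≅ 𝟭 (DCoh.D A.left) := lPComp inv' inv' hi ≪≫ lPId A.left
  let adjI : lP inv' ⊣ lP inv' := (CategoryTheory.Equivalence.mk (lP inv') (lP inv') ii.symm ii).toAdjunction
  let rI : DCoh.Rpush inv' ≅ lP inv' := (adjLP inv').rightAdjointUniq adjI
  let s5 : ιA ⋙ (lP (fst A A).left ⋙ lP j) ⋙ tenF (Coh.structureModule A.left) ⋙
        (DCoh.Rpush j ⋙ DCoh.Rpush (snd A A).left) ⋙ shiftFunctor (DCoh.D A.left) (-(g : ℤ)) ≅
      ιA ⋙ lP inv' ⋙ shiftFunctor (DCoh.D A.left) (-(g : ℤ)) :=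
    Functor.isoWhiskerLeft ιA (Functor.isoWhiskerRight (lPComp j (fst A A).left h3 ≪≫ lPId A.left) _ ≪≫
      Functor.leftUnitor _ ≪≫ Functor.isoWhiskerRight tenOne _ ≪≫ Functor.leftUnitor _ ≪≫
      Functor.isoWhiskerRight (rpushComp j (snd A A).left h4 ≪≫ rI) _)
  exact ⟨s0 ≪≫ s1 ≪≫ s2 ≪≫ s3 ≪≫ s4 ≪≫ s5⟩

include hφ hP hξ hg in
/-- Fourier–Mukai inversion on the kernels `P` and its swap. -/
theorem nonempty_inversion :
    Nonempty (ObjectProperty.ι (DCoh.IsQCohD (X := A.left)) ⋙ phiK (fst A At).left (snd A At).left P ⋙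
        phiK (fst At A).left (snd At A).left (swP P) ≅
      ObjectProperty.ι (DCoh.IsQCohD (X := A.left)) ⋙ lP ((𝟙 A)⁻¹).left ⋙
        shiftFunctor (DCoh.D A.left) (-(g : ℤ))) := by
  haveI : GeometricallyIntegral A.hom := AbRigid.geometricallyIntegral_of_smooth A
  exact nonempty_inversion_gen hP (nonempty_rpush_fst hφ hP hξ hg) fun x x' y =>
    Poincare22.pull_lift_mul hφ hξ x x' y

include hφ hP hξ hg in
/-- The projection of the swapped module to the dual is the origin in degree `g`. -/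
theorem nonempty_rpush_fst_swP :
    Nonempty ((DCoh.Rpush (fst At A).left).obj
        ((DerivedCategory.singleFunctor (At ⊗ A).left.Modules 0).obj (swP P)) ≅
      (shiftFunctor (DCoh.D At.left) (-(g : ℤ))).obj ((DCoh.Rpush η[At].left).obj
        ((DerivedCategory.singleFunctor (Spec (CommRingCat.of k)).Modules 0).obj
          (Coh.structureModule (Spec (CommRingCat.of k)))))) := by
  haveI : GeometricallyIntegral A.hom := AbRigid.geometricallyIntegral_of_smooth A
  haveI : GeometricallyIntegral At.hom := AbRigid.geometricallyIntegral_of_smooth At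
  obtain ⟨hgt, -⟩ := Poincare22.exists_local hφ hP hξ hg
  have hD : Poinc13.IsPLike A At P := ⟨fun f h t => Poincare22.pull_lift_mul hφ hξ f h t,
    fun q => Poincare22.triv_iff hφ hξ q, le_of_eq (hg.trans hgt.symm)⟩
  obtain ⟨e⟩ := Poinc13.nonempty_rpush_origin hP hD hg
  haveI : IsProper (snd A At).left := inferInstanceAs (IsProper (pullback.snd A.hom At.hom))
  haveI : Flat (snd A At).left := inferInstanceAs (Flat (pullback.snd A.hom At.hom))
  haveI : IsIso (AbDual22.sw At A) := ⟨AbDual22.sw A At,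
    by apply CartesianMonoidalCategory.hom_ext <;> simp [AbDual22.sw],
    by apply CartesianMonoidalCategory.hom_ext <;> simp [AbDual22.sw]⟩
  haveI : IsIso (AbDual22.sw At A).left := inferInstanceAs (IsIso ((Over.forget _).map (AbDual22.sw At A)))
  have hsq : IsPullback (AbDual22.sw At A).left (fst At A).left (snd A At).left (𝟙 At.left) :=
    IsPullback.of_horiz_isIso ⟨by
      rw [← Over.comp_left, Category.comp_id, show AbDual22.sw At A ≫ snd A At = fst At A by simp [AbDual22.sw]]⟩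
  obtain ⟨b⟩ := nonempty_bc_inD hsq P (Twist.isQCoh_of_isInvertible hP) (isFlatOver_of_isInvertible _ hP)
  exact ⟨b.symm ≪≫ (lPId At.left).app _ ≪≫ e⟩

include hφ hP hξ hg in
/-- Fourier–Mukai inversion in the other order. -/
theorem nonempty_inversion_swP :
    Nonempty (ObjectProperty.ι (DCoh.IsQCohD (X := At.left)) ⋙ phiK (fst At A).left (snd At A).left (swP P) ⋙
        phiK (fst A At).left (snd A At).left P ≅
      ObjectProperty.ι (DCoh.IsQCohD (X := At.left)) ⋙ lP ((𝟙 At)⁻¹).left ⋙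
        shiftFunctor (DCoh.D At.left) (-(g : ℤ))) := by
  obtain ⟨i⟩ := nonempty_inversion_gen (A := At) (At := A) (P := swP P) (PicLoc.isInvertible_pullback _ hP)
    (nonempty_rpush_fst_swP hφ hP hξ hg) fun x x' y => by
      rw [cl_pull_swP hξ, cl_pull_swP hξ, cl_pull_swP hξ, ← PicGrp.mul_val, ev_mul_right hφ hξ]
  let e : swP (swP P) ≅ P := (Scheme.Modules.pullbackComp _ _).app P ≪≫
    (Scheme.Modules.pullbackCongr (by
      rw [← Over.comp_left, show AbDual22.sw A At ≫ AbDual22.sw At A = 𝟙 (A ⊗ At) by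
        apply CartesianMonoidalCategory.hom_ext <;> simp [AbDual22.sw], Over.id_left]
      rfl)).app P ≪≫
    (Scheme.Modules.pullbackId _).app P
  exact ⟨Functor.isoWhiskerLeft _ (Functor.isoWhiskerLeft _ (phiKIso _ _ e.symm)) ≪≫ i⟩

end Groth.Agent.FMBase13

end
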