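import Groth.Agent.Lib.FMBase13.Basic

/-!
# Integral functors with invertible kernel

Base change, twisting and comparison of integral functors `Rq_* (Lp^* - ⊗ K)`.
-/

set_option autoImplicit false
set_option linter.style.haveILetI false
set_option linter.unusedSectionVars false
set_option backward.isDefEq.respectTransparency false
set_option backward.isDefEq.respectTransparency.types false
set_option maxHeartbeats 1600000

universe u

open CategoryTheory CategoryTheory.Limits MonoidalCategory AlgebraicGeometry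

attribute [local instance] HasDerivedCategory.standard

namespace Groth.Agent.FMBase13

open DMon9 DBC9 TwistBC9 KFlat KFlat.Sch

attribute [local instance] DBC9.hasRpush

variable {A X S : Scheme.{u}}

/-- An invertible module is flat over the base of a flat morphism. -/
theorem isFlatOver_of_isInvertible (f : X ⟶ S) [Flat f] {G : X.Modules} (hG : PicF.IsInvertible G) :
    FlatMod.IsFlatOver f G :=
  DPerf.isFlatOver_of_isFlat f (M := G) fun x =>
    KFlat.Sch.isFlat_of_isFinLocFree (M2.isFinLocFree_of_isInvertible hG) x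

/-- Base change with a twist, naturally. -/
theorem nonempty_twistBC {X' S' : Scheme.{u}} {f : X ⟶ S} [QuasiCompact f] [QuasiSeparated f] [Flat f]
    {g : S' ⟶ S} {f' : X' ⟶ S'} {g' : X' ⟶ X} (H : IsPullback g' f' f g) {G : X.Modules}
    (hG : PicF.IsInvertible G) :
    Nonempty (ObjectProperty.ι (DCoh.IsQCohD (X := X)) ⋙ tenF G ⋙ DCoh.Rpush f ⋙ lP g ≅
      ObjectProperty.ι (DCoh.IsQCohD (X := X)) ⋙ lP g' ⋙
        tenF ((Scheme.Modules.pullback g').obj G) ⋙ DCoh.Rpush f') := by
  let G' := (Scheme.Modules.pullback g').obj G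
  let t : tenF G ⋙ DCoh.Rpush f ⋙ lP g ⟶ lP g' ⋙ tenF G' ⋙ DCoh.Rpush f' :=
    { app := fun E => (bc (adjLP f) (adjLP f') (σcan H.w.symm).hom).app ((tenF G).obj E) ≫
        (DCoh.Rpush f').map ((tenNat g' G G' ((cTr g').app G)).app E)
      naturality := fun E E' w => by
        have h1 := (bc (adjLP f) (adjLP f') (σcan H.w.symm).hom).naturality ((tenF G).map w)
        have h2 := congrArg (DCoh.Rpush f').map ((tenNat g' G G' ((cTr g').app G)).naturality w)
        rw [Functor.map_comp, Functor.map_comp] at h2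
        refine (Category.assoc _ _ _).symm.trans ((congrArg (· ≫ _) h1).trans ((Category.assoc _ _ _).trans ?_))
        exact (congrArg (_ ≫ ·) h2).trans (Category.assoc _ _ _).symm }
  haveI : ∀ E : (DCoh.IsQCohD (X := X)).FullSubcategory,
      IsIso ((Functor.whiskerLeft (ObjectProperty.ι (DCoh.IsQCohD (X := X))) t).app E) := fun E =>
    isIso_twist_bc H G G' ((cTr g').app G) (Twist.isQCoh_of_isInvertible hG)
      (Twist.isQCoh_of_isInvertible (Twist.isInvertible_pullback g' hG))
      (isFlatOver_of_isInvertible f hG) (isIso_H0_cTr g' G) (adjLP f) (adjLP f') (σcan H.w.symm)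
      E.obj E.property
  exact ⟨NatIso.ofComponents (fun E => asIso ((Functor.whiskerLeft (ObjectProperty.ι
      (DCoh.IsQCohD (X := X))) t).app E)) fun w =>
    (Functor.whiskerLeft (ObjectProperty.ι (DCoh.IsQCohD (X := X))) t).naturality w⟩

/-- The integral functor with kernel `K`. -/
noncomputable def phiK (p : X ⟶ A) (q : X ⟶ S) (K : X.Modules) : DCoh.D A ⥤ DCoh.D S :=
  lP p ⋙ tenF K ⋙ DCoh.Rpush q

variable (p : X ⟶ A) (q : X ⟶ S)

/-- The integral functor of the prelude. -/
theorem nonempty_phiK {K : X.Modules} (hK : PicF.IsInvertible K) [DCoh.HasLpull p] [DCoh.HasLTensorMod K]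
    [DCoh.HasRpush q] :
    Nonempty (DCoh.Lpull p ⋙ DCoh.LTensorMod K ⋙ DCoh.Rpush q ≅ phiK p q K) := by
  obtain ⟨a⟩ := nonempty_lpull_natIso_lP p
  obtain ⟨b⟩ := nonempty_LT_tenF K hK
  exact ⟨Functor.isoWhiskerRight a _ ≪≫ Functor.isoWhiskerLeft (lP p) (Functor.isoWhiskerRight b (DCoh.Rpush q))⟩

/-- Isomorphic kernels. -/
noncomputable def phiKIso {K K' : X.Modules} (e : K ≅ K') : phiK p q K ≅ phiK p q K' :=
  Functor.isoWhiskerLeft (lP p) (Functor.isoWhiskerRight (tenIso e) (DCoh.Rpush q))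

/-- Equal first legs. -/
noncomputable def phiKCongr {p' : X ⟶ A} (h : p = p') (K : X.Modules) : phiK p q K ≅ phiK p' q K :=
  eqToIso (h ▸ rfl)

/-- Pulling back before an integral functor. -/
theorem nonempty_lP_phiK {B : Scheme.{u}} (r : A ⟶ B) (K : X.Modules) :
    Nonempty (lP r ⋙ phiK p q K ≅ phiK (p ≫ r) q K) :=
  ⟨(Functor.associator _ _ _).symm ≪≫ Functor.isoWhiskerRight (lPComp p r rfl) (tenF K ⋙ DCoh.Rpush q)⟩

/-- Base change of an integral functor. -/
theorem nonempty_phiK_BC [QuasiCompact q] [QuasiSeparated q] [Flat q] {X' S' : Scheme.{u}}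
    {g : S' ⟶ S} {q' : X' ⟶ S'} {g' : X' ⟶ X} (H : IsPullback g' q' q g) {K : X.Modules}
    (hK : PicF.IsInvertible K) :
    Nonempty (ObjectProperty.ι (DCoh.IsQCohD (X := A)) ⋙ phiK p q K ⋙ lP g ≅
      ObjectProperty.ι (DCoh.IsQCohD (X := A)) ⋙
        phiK (g' ≫ p) q' ((Scheme.Modules.pullback g').obj K)) := by
  obtain ⟨t⟩ := nonempty_twistBC H hK
  let L : (DCoh.IsQCohD (X := A)).FullSubcategory ⥤ (DCoh.IsQCohD (X := X)).FullSubcategory :=
    ObjectProperty.lift _ (ObjectProperty.ι (DCoh.IsQCohD (X := A)) ⋙ lP p)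
      fun E => isQCohD_lP p E.property
  let t' := Functor.isoWhiskerLeft L t
  let u : ObjectProperty.ι (DCoh.IsQCohD (X := A)) ⋙ phiK p q K ⋙ lP g ≅
      ObjectProperty.ι (DCoh.IsQCohD (X := A)) ⋙ (lP p ⋙ lP g') ⋙
        (tenF ((Scheme.Modules.pullback g').obj K) ⋙ DCoh.Rpush q') := t'
  exact ⟨u ≪≫ Functor.isoWhiskerLeft (ObjectProperty.ι (DCoh.IsQCohD (X := A)))
    (Functor.isoWhiskerRight (lPComp g' p rfl) (tenF ((Scheme.Modules.pullback g').obj K) ⋙ DCoh.Rpush q'))⟩

/-- Twisting before an integral functor. -/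
theorem nonempty_twist_phiK {M : A.Modules} (hM : PicF.IsInvertible M) {K : X.Modules}
    (hK : PicF.IsInvertible K) :
    Nonempty (tenF M ⋙ phiK p q K ≅ phiK p q (CohB1.tensorMod ((Scheme.Modules.pullback p).obj M) K)) := by
  obtain ⟨a⟩ := nonempty_tenPull p hM
  obtain ⟨b⟩ := nonempty_tenComp ((Scheme.Modules.pullback p).obj M) hK
  exact ⟨(Functor.associator _ _ _).symm ≪≫ Functor.isoWhiskerRight a (tenF K ⋙ DCoh.Rpush q) ≪≫
    Functor.associator _ _ _ ≪≫ Functor.isoWhiskerLeft (lP p) ((Functor.associator _ _ _).symm ≪≫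
      Functor.isoWhiskerRight b (DCoh.Rpush q))⟩

/-- Twisting after an integral functor. -/
theorem nonempty_phiK_twist {N : S.Modules} (hN : PicF.IsInvertible N) (K : X.Modules) :
    Nonempty (phiK p q K ⋙ tenF N ≅ phiK p q (CohB1.tensorMod K ((Scheme.Modules.pullback q).obj N))) := by
  obtain ⟨a⟩ := nonempty_pushTwist q hN
  obtain ⟨b⟩ := nonempty_tenComp K (Twist.isInvertible_pullback q hN)
  exact ⟨Functor.associator _ _ _ ≪≫ Functor.isoWhiskerLeft (lP p) (Functor.associator _ _ _ ≪≫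
    Functor.isoWhiskerLeft (tenF K) a ≪≫ (Functor.associator _ _ _).symm ≪≫
      Functor.isoWhiskerRight b (DCoh.Rpush q))⟩

/-- Substituting an isomorphism over the base. -/
theorem nonempty_phiK_shear [QuasiCompact q] [QuasiSeparated q] [Flat q] (s : X ⟶ X) [IsIso s] (hs : s ≫ q = q)
    {K : X.Modules} (hK : PicF.IsInvertible K) :
    Nonempty (ObjectProperty.ι (DCoh.IsQCohD (X := A)) ⋙ phiK p q K ≅
      ObjectProperty.ι (DCoh.IsQCohD (X := A)) ⋙
        phiK (s ≫ p) q ((Scheme.Modules.pullback s).obj K)) := by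
  obtain ⟨t⟩ := nonempty_phiK_BC p q (IsPullback.of_horiz_isIso ⟨by rw [hs, Category.comp_id]⟩ :
    IsPullback s q q (𝟙 S)) hK
  exact ⟨Functor.isoWhiskerLeft _ ((Functor.rightUnitor _).symm ≪≫
    Functor.isoWhiskerLeft _ (lPId S).symm) ≪≫ t⟩

end Groth.Agent.FMBase13
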