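import Groth.Agent.Lib.FMBase13.Kernel
import Groth.Agent.Lib.FMBase13.Classes
import Groth.Agent.Lib.RR22.Mumford

/-!
# The integral transform of an invertible module pulled back along its Mumford morphism
-/

set_option autoImplicit false
set_option linter.style.haveILetI false
set_option linter.unusedSectionVars false
set_option backward.isDefEq.respectTransparency false
set_option backward.isDefEq.respectTransparency.types false
set_option maxHeartbeats 1600000

universe u

open CategoryTheory CategoryTheory.Limits MonoidalCategory CartesianMonoidalCategory AlgebraicGeometry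
open scoped MonObj GrpObj

attribute [local instance] HasDerivedCategory.standard

namespace Groth.Agent.FMBase13

open DMon9 DBC9 TwistBC9

attribute [local instance] DBC9.hasRpush

section

variable {A X S : Scheme.{u}}

/-- A module in degree zero, as a quasi-coherent object. -/
noncomputable abbrev inQ {L : A.Modules} (hL : PicF.IsInvertible L) : (DCoh.IsQCohD (X := A)).FullSubcategory :=
  ⟨(DerivedCategory.singleFunctor A.Modules 0).obj L, isQCohD_inD L (Twist.isQCoh_of_isInvertible hL) 0⟩

/-- An integral functor on an invertible module. -/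
theorem nonempty_phiK_single (p : X ⟶ A) (q : X ⟶ S) {L : A.Modules} (hL : PicF.IsInvertible L)
    {K : X.Modules} (hK : PicF.IsInvertible K) :
    Nonempty ((phiK p q K).obj ((DerivedCategory.singleFunctor A.Modules 0).obj L) ≅
      (DCoh.Rpush q).obj ((DerivedCategory.singleFunctor X.Modules 0).obj
        (CohB1.tensorMod ((Scheme.Modules.pullback p).obj L) K))) := by
  obtain ⟨a⟩ := nonempty_lP_modM p hL
  obtain ⟨b⟩ := nonempty_modM_tensor ((Scheme.Modules.pullback p).obj L) K hK
  exact ⟨(DCoh.Rpush q).mapIso ((tenF K).mapIso a ≪≫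
    (b : (tenF K).obj ((DerivedCategory.singleFunctor X.Modules 0).obj ((Scheme.Modules.pullback p).obj L)) ≅ _))⟩

end

noncomputable local instance instLawFMLam (Y : Scheme.{u}) : PicGrp.Law Y := M2.law Y

variable {k : Type u} [Field k] {A : Over (Spec (CommRingCat.of k))} [GrpObj A] [IsProper A.hom] [Smooth A.hom]

/-- The direct image of the pullback along multiplication. -/
theorem nonempty_push_mul {L : A.left.Modules} (hL : PicF.IsInvertible L) :
    Nonempty ((DCoh.Rpush (snd A A).left).obj ((DerivedCategory.singleFunctor (A ⊗ A).left.Modules 0).obj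
        ((Scheme.Modules.pullback μ[A].left).obj L)) ≅
      (lP A.hom).obj ((DCoh.Rpush A.hom).obj ((DerivedCategory.singleFunctor A.left.Modules 0).obj L))) := by
  haveI : IsProper (snd A A).left := inferInstanceAs (IsProper (pullback.snd A.hom A.hom))
  haveI : Flat (snd A A).left := inferInstanceAs (Flat (pullback.snd A.hom A.hom))
  have hO : ∀ Y : Scheme.{u}, PicF.IsInvertible (Coh.structureModule Y) := PicLoc.isInvertible_structureModule
  let sA : A ⊗ A ⟶ A ⊗ A := lift (fst A A * snd A A) (snd A A)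
  have hs1 : sA ≫ lift (fst A A * (snd A A)⁻¹) (snd A A) = 𝟙 _ := by
    apply CartesianMonoidalCategory.hom_ext <;>
      simp [sA, MonObj.comp_mul, GrpObj.comp_inv]
  have hs2 : lift (fst A A * (snd A A)⁻¹) (snd A A) ≫ sA = 𝟙 _ := by
    apply CartesianMonoidalCategory.hom_ext <;>
      simp [sA, MonObj.comp_mul]
  haveI : IsIso sA := ⟨_, hs1, hs2⟩
  haveI : IsIso sA.left := inferInstanceAs (IsIso ((Over.forget _).map sA))
  have hsnd : sA.left ≫ (snd A A).left = (snd A A).left := by rw [← Over.comp_left, lift_snd]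
  have hμ : μ[A] = fst A A * snd A A := by rw [Hom.mul_def, lift_fst_snd, Category.id_comp]
  have hfst : sA.left ≫ (fst A A).left = μ[A].left := by rw [← Over.comp_left, lift_fst, hμ]
  -- shearing
  obtain ⟨sh⟩ := nonempty_phiK_shear (fst A A).left (snd A A).left sA.left hsnd (hO _)
  obtain ⟨u1⟩ := nonempty_phiK_single (fst A A).left (snd A A).left hL (hO _)
  obtain ⟨u2⟩ := nonempty_phiK_single (sA.left ≫ (fst A A).left) (snd A A).left hL
    (PicLoc.isInvertible_pullback sA.left (hO _))
  let e1 : CohB1.tensorMod ((Scheme.Modules.pullback (fst A A).left).obj L) (Coh.structureModule _) ≅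
      (Scheme.Modules.pullback (fst A A).left).obj L := M2.tensorRUnit _
  let e2 : CohB1.tensorMod ((Scheme.Modules.pullback (sA.left ≫ (fst A A).left)).obj L)
      ((Scheme.Modules.pullback sA.left).obj (Coh.structureModule _)) ≅
      (Scheme.Modules.pullback μ[A].left).obj L :=
    M2.tensorIso ((Scheme.Modules.pullbackCongr hfst).app L) (PicLoc.pullbackStructureIso _) ≪≫ M2.tensorRUnit _
  -- base change along the structure map
  obtain ⟨bc'⟩ := nonempty_phiK_BC (𝟙 A.left) A.hom (IsPullback.of_hasPullback A.hom A.hom : IsPullback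
    (fst A A).left (snd A A).left A.hom A.hom) (hO _)
  obtain ⟨u3⟩ := nonempty_phiK_single (𝟙 A.left) A.hom hL (hO _)
  obtain ⟨u4⟩ := nonempty_phiK_single ((fst A A).left ≫ 𝟙 A.left) (snd A A).left hL
    (PicLoc.isInvertible_pullback (fst A A).left (hO _))
  let e3 : CohB1.tensorMod ((Scheme.Modules.pullback (𝟙 A.left)).obj L) (Coh.structureModule _) ≅ L :=
    M2.tensorRUnit _ ≪≫ (Scheme.Modules.pullbackId A.left).app L
  let e4 : CohB1.tensorMod ((Scheme.Modules.pullback ((fst A A).left ≫ 𝟙 A.left)).obj L)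
      ((Scheme.Modules.pullback (fst A A).left).obj (Coh.structureModule _)) ≅
      (Scheme.Modules.pullback (fst A A).left).obj L :=
    M2.tensorIso ((Scheme.Modules.pullbackCongr (Category.comp_id _)).app L)
      (PicLoc.pullbackStructureIso _) ≪≫ M2.tensorRUnit _
  let R := DCoh.Rpush (snd A A).left
  let D := DerivedCategory.singleFunctor (A ⊗ A).left.Modules 0
  exact ⟨R.mapIso (D.mapIso e2.symm) ≪≫ u2.symm ≪≫ (sh.app (inQ hL)).symm ≪≫ u1 ≪≫
    R.mapIso (D.mapIso (e1 ≪≫ e4.symm)) ≪≫ u4.symm ≪≫ (bc'.app (inQ hL)).symm ≪≫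
    (lP A.hom).mapIso (u3 ≪≫ (DCoh.Rpush A.hom).mapIso ((DerivedCategory.singleFunctor A.left.Modules 0).mapIso e3))⟩

/-- An inverse of an invertible module is invertible. -/
theorem isInvertible_of_inverse {X : Scheme.{u}} {L L' : X.Modules} (hL : PicF.IsInvertible L)
    (e : CohB1.tensorMod L L' ≅ Coh.structureModule X) : PicF.IsInvertible L' := by
  obtain ⟨D, hD, ⟨d⟩⟩ := M2.exists_inverse hL
  exact M2.isInvertible_of_iso
    ((M2.tensorLUnit L').symm ≪≫ M2.tensorIso (d.symm ≪≫ M2.tensorComm L D) (Iso.refl L') ≪≫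
      M2.tensorAssoc D L L' ≪≫ M2.tensorIso (Iso.refl D) e ≪≫ M2.tensorRUnit D).symm hD

variable [GeometricallyConnected A.hom] {At : Over (Spec (CommRingCat.of k))} [GrpObj At] [IsProper At.hom]
  [Smooth At.hom]

/-- The transform of `L` pulled back along the Mumford morphism is `RΓ(L) ⊗ L⁻¹`. -/
theorem nonempty_pull_lambda {φ : ∀ T : Over (Spec (CommRingCat.of k)), PicF.Cl (PicF.XT A.hom T) → (T ⟶ At)}
    (hφ : AbDual.IsDualAV Scheme.fppfPrecoverage A At φ) {P : (PicF.XT A.hom At).Modules}
    (hP : PicF.IsInvertible P) (hξ : AbDual.IsPoincareCl A At φ (PicF.cl P))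
    {L : A.left.Modules} (hL : PicF.IsInvertible L) {L' : A.left.Modules}
    (hL' : Nonempty (CohB1.tensorMod L L' ≅ Coh.structureModule A.left)) {Λ : (PicF.XT A.hom A).Modules}
    (hΛ : Nonempty (Λ ≅ CohB1.tensorMod (CohB1.tensorMod ((Scheme.Modules.pullback μ[A].left).obj L)
      ((Scheme.Modules.pullback (fst A A).left).obj L')) ((Scheme.Modules.pullback (snd A A).left).obj L')))
    (hΛ0 : AbDual.IsPicZeroCl A.hom A (PicF.cl Λ)) :
    Nonempty ((lP (φ A (PicF.cl Λ)).left).obj ((phiK (fst A At).left (snd A At).left P).obj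
        ((DerivedCategory.singleFunctor A.left.Modules 0).obj L)) ≅
      (tenF L').obj ((lP A.hom).obj ((DCoh.Rpush A.hom).obj
        ((DerivedCategory.singleFunctor A.left.Modules 0).obj L)))) := by
  haveI : IsProper (snd A A).left := inferInstanceAs (IsProper (pullback.snd A.hom A.hom))
  haveI : IsProper (snd A At).left := inferInstanceAs (IsProper (pullback.snd A.hom At.hom))
  haveI : Flat (snd A At).left := inferInstanceAs (Flat (pullback.snd A.hom At.hom))
  obtain ⟨eL⟩ := hL'
  have hL'i := isInvertible_of_inverse hL eL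
  obtain ⟨eΛ⟩ := hΛ
  set f := φ A (PicF.cl Λ)
  have hΛc := RR22.cl_mumford hL ⟨eL⟩ ⟨eΛ⟩
  obtain ⟨eP⟩ : Nonempty (Λ ≅ (Scheme.Modules.pullback (A ◁ f).left).obj P) :=
    (PicGrp.cl_eq_cl_iff _ _).1 ((RR22.cl_eq_pull_poincare hφ hΛ0 hΛc hξ).trans (PicLoc.pullCl_cl _ _))
  obtain ⟨c⟩ := nonempty_phiK_BC (fst A At).left (snd A At).left (isPullback_whisker A f) hP
  obtain ⟨u1⟩ := nonempty_phiK_single ((A ◁ f).left ≫ (fst A At).left) (snd A A).left hL
    (PicLoc.isInvertible_pullback (A ◁ f).left hP)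
  have hfst : (A ◁ f).left ≫ (fst A At).left = (fst A A).left := by rw [← Over.comp_left, whiskerLeft_fst]
  let p := (fst A A).left
  let q := (snd A A).left
  let Lp := (Scheme.Modules.pullback p).obj L
  let L'p := (Scheme.Modules.pullback p).obj L'
  let L'q := (Scheme.Modules.pullback q).obj L'
  let Lm := (Scheme.Modules.pullback μ[A].left).obj L
  let w : CohB1.tensorMod Lp L'p ≅ Coh.structureModule _ :=
    (M2.pullTensorIso p L L').symm ≪≫ (Scheme.Modules.pullback p).mapIso eL ≪≫ PicLoc.pullbackStructureIso p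
  let e : CohB1.tensorMod ((Scheme.Modules.pullback ((A ◁ f).left ≫ (fst A At).left)).obj L)
      ((Scheme.Modules.pullback (A ◁ f).left).obj P) ≅ CohB1.tensorMod Lm L'q :=
    M2.tensorIso ((Scheme.Modules.pullbackCongr hfst).app L) (eP.symm ≪≫ eΛ) ≪≫
      (M2.tensorAssoc Lp (CohB1.tensorMod Lm L'p) L'q).symm ≪≫
      M2.tensorIso ((M2.tensorAssoc Lp Lm L'p).symm ≪≫ M2.tensorIso (M2.tensorComm Lp Lm) (Iso.refl L'p) ≪≫
        M2.tensorAssoc Lm Lp L'p ≪≫ M2.tensorIso (Iso.refl Lm) w ≪≫ M2.tensorRUnit Lm) (Iso.refl L'q)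
  obtain ⟨b⟩ := nonempty_modM_tensor Lm L'q (PicLoc.isInvertible_pullback q hL'i)
  obtain ⟨pf⟩ := nonempty_pushTwist q hL'i
  obtain ⟨pm⟩ := nonempty_push_mul (A := A) hL
  let R := DCoh.Rpush q
  let D := DerivedCategory.singleFunctor (A ⊗ A).left.Modules 0
  exact ⟨c.app (inQ hL) ≪≫ u1 ≪≫ R.mapIso (D.mapIso e) ≪≫
    R.mapIso (b : (tenF L'q).obj (D.obj Lm) ≅ D.obj (CohB1.tensorMod Lm L'q)).symm ≪≫
    (pf.app (D.obj Lm)).symm ≪≫ (tenF L').mapIso pm⟩

end Groth.Agent.FMBase13
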